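import Cfsg.Agent.Lib.Spread91.Field

/-!
Finite Jordan division sets of endomorphisms in odd characteristic are commutative.
-/

set_option autoImplicit false

namespace CfsgLib.Spread91

open Finset

universe u

variable {W : Type u} [AddCommGroup W] [Finite W]

instance finite_end : Finite (AddMonoid.End W) :=
  Finite.of_injective (fun f => (f : W → W)) DFunLike.coe_injective

omit [Finite W] in
theorem end_mul_apply (f g : AddMonoid.End W) (w : W) : (f * g) w = f (g w) := rfl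

/-- An endomorphism of a finite group without kernel is a unit. -/
theorem isUnit_of_ker {z : AddMonoid.End W} (h : ∀ w, z w = 0 → w = 0) : IsUnit z := by
  have hb : Function.Bijective z :=
    Finite.injective_iff_bijective.1 ((injective_iff_map_eq_zero z).2 h)
  let e := AddEquiv.ofBijective z hb
  exact ⟨⟨z, e.symm.toAddMonoidHom, AddMonoidHom.ext e.apply_symm_apply, AddMonoidHom.ext e.symm_apply_apply⟩, rfl⟩

theorem exists_ker_of_not_isUnit {z : AddMonoid.End W} (h : ¬ IsUnit z) : ∃ w, w ≠ 0 ∧ z w = 0 := by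
  by_contra hcon
  push Not at hcon
  exact h (isUnit_of_ker fun w hw => by_contra fun h0 => hcon w h0 hw)

omit [Finite W] in
theorem injective_of_isUnit {z : AddMonoid.End W} (h : IsUnit z) {w : W} (hw : z w = 0) : w = 0 := by
  obtain ⟨u, rfl⟩ := h
  have : ((u⁻¹.1 * u.1 : AddMonoid.End W)) w = w := by rw [u.inv_mul]; rfl
  rw [end_mul_apply, hw, map_zero] at this
  exact this.symm

section

variable {A : Type*} [Field A] [Fintype A] {R : Type*} [Ring R] (ι : A →+* R)

omit [Fintype A] in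
theorem apply_inv' (σ : RingAut A) (k : A) : σ (σ⁻¹ k) = k := by
  rw [← RingAut.mul_apply, mul_inv_cancel, RingAut.one_apply]

omit [Fintype A] in
theorem inv_apply' (σ : RingAut A) (k : A) : σ⁻¹ (σ k) = k := by
  rw [← RingAut.mul_apply, inv_mul_cancel, RingAut.one_apply]

omit [Fintype A] in
theorem semi_mul {σ ρ : RingAut A} {x y : R} (hx : ∀ k, x * ι k = ι (σ k) * x)
    (hy : ∀ k, y * ι k = ι (ρ k) * y) (k : A) : x * y * ι k = ι ((σ * ρ) k) * (x * y) := by
  rw [mul_assoc, hy, ← mul_assoc, hx, mul_assoc, RingAut.mul_apply]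

omit [Fintype A] in
theorem semi_smul {σ : RingAut A} {x : R} (hx : ∀ k, x * ι k = ι (σ k) * x) (a k : A) :
    ι a * x * ι k = ι (σ k) * (ι a * x) := by
  rw [mul_assoc, hx, ← mul_assoc, ← mul_assoc, ← map_mul, ← map_mul, mul_comm]

/-- The graded parts of a power of a sum of two semilinear elements. -/
def grade (y₁ y₂ : R) : ℕ → ℕ → R
  | 0, 0 => 1
  | 0, _ + 1 => 0
  | j + 1, 0 => y₁ * grade y₁ y₂ j 0
  | j + 1, i + 1 => y₁ * grade y₁ y₂ j (i + 1) + y₂ * grade y₁ y₂ j i

theorem grade_zero (y₁ y₂ : R) : ∀ j, grade y₁ y₂ j 0 = y₁ ^ j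
  | 0 => by simp [grade]
  | j + 1 => by rw [grade, grade_zero y₁ y₂ j, pow_succ']

theorem grade_gt (y₁ y₂ : R) : ∀ j i, j < i → grade y₁ y₂ j i = 0
  | 0, 0, h => absurd h (lt_irrefl 0)
  | 0, _ + 1, _ => by simp [grade]
  | j + 1, 0, h => absurd h (Nat.not_lt_zero _)
  | j + 1, i + 1, h => by
    rw [grade, grade_gt y₁ y₂ j (i + 1) (by omega), grade_gt y₁ y₂ j i (by omega)]
    simp

theorem grade_self (y₁ y₂ : R) : ∀ j, grade y₁ y₂ j j = y₂ ^ j
  | 0 => by simp [grade]
  | j + 1 => by rw [grade, grade_gt y₁ y₂ j (j + 1) (by omega), grade_self y₁ y₂ j, mul_zero, zero_add, pow_succ']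

theorem pow_eq_sum_grade (y₁ y₂ : R) : ∀ j, (y₁ + y₂) ^ j = ∑ i ∈ range (j + 1), grade y₁ y₂ j i
  | 0 => by simp [grade]
  | j + 1 => by
    rw [pow_succ', pow_eq_sum_grade y₁ y₂ j, Finset.sum_range_succ' _ (j + 1), add_mul, Finset.mul_sum,
      Finset.mul_sum]
    simp only [grade]
    rw [Finset.sum_add_distrib, Finset.sum_range_succ' _ j,
      Finset.sum_range_succ (fun i => y₁ * grade y₁ y₂ j (i + 1)) j, grade_gt y₁ y₂ j (j + 1) (by omega)]
    simp only [mul_zero, add_zero]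
    abel

omit [Fintype A] in
theorem grade_semi {σ : RingAut A} {y₁ y₂ : R} (h₁ : ∀ k, y₁ * ι k = ι (σ k) * y₁)
    (h₂ : ∀ k, y₂ * ι k = ι (σ⁻¹ k) * y₂) : ∀ (j i : ℕ) (k : A),
      grade y₁ y₂ j i * ι k = ι ((σ ^ ((j : ℤ) - 2 * i)) k) * grade y₁ y₂ j i
  | 0, 0, k => by simp [grade]
  | 0, _ + 1, k => by simp [grade]
  | j + 1, 0, k => by
    rw [grade, semi_mul ι h₁ (grade_semi h₁ h₂ j 0)]
    congr 3
    rw [← zpow_one_add]
    congr 1
    push_cast
    ring
  | j + 1, i + 1, k => by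
    rw [grade, add_mul, semi_mul ι h₁ (grade_semi h₁ h₂ j (i + 1)), semi_mul ι h₂ (grade_semi h₁ h₂ j i),
      mul_add]
    congr 4
    · rw [← zpow_one_add]; congr 1; push_cast; ring
    · rw [← zpow_neg_one, ← zpow_add]; congr 1; push_cast; ring

omit [Fintype A] in
theorem exists_sq_move {p n : ℕ} (hn : p = 2 * n + 1) (hp : (p : A) = 0) {σ : RingAut A} (hσ : σ ≠ 1) :
    ∃ a : A, σ (a * a) ≠ a * a := by
  by_contra hcon
  push Not at hcon
  refine hσ (RingEquiv.ext fun k => ?_)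
  have h2 : (2 : A) ≠ 0 := by
    intro h
    have : ((2 * n + 1 : ℕ) : A) = 0 := hn ▸ hp
    push_cast at this
    rw [h, zero_mul, zero_add] at this
    exact one_ne_zero this
  have := hcon (k + 1)
  have hk := hcon k
  simp only [map_mul, map_add, map_one] at this hk
  refine mul_left_cancel₀ h2 ?_
  show 2 * σ k = 2 * k
  linear_combination this - hk

end

omit [Finite W] in
/-- The action of the second component on a vector that is an eigenvector of the first. -/
theorem second_apply {B : Type*} [Field B] (ιB : B →+* AddMonoid.End W) {sB : B → B} {y₁ y₂ : AddMonoid.End W}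
    (hinj : ∀ w, y₁ w = 0 → w = 0) {cB γ δ : B} {v : W}
    (hsB : ∀ b, y₁ * ιB b = ιB (sB b) * y₁) (hcB : ιB cB = y₁ * y₂) (hv : y₁ v = ιB γ v)
    (hδ : sB δ * γ = cB) : y₂ v = ιB δ v := by
  refine sub_eq_zero.1 (hinj _ ?_)
  rw [map_sub, ← end_mul_apply, ← hcB, sub_eq_zero, ← end_mul_apply, hsB, end_mul_apply, hv,
    ← end_mul_apply, ← map_mul, hδ]

/-- No element is semilinear for a pair of inverse automorphisms of odd order. -/
theorem not_odd_pair {A : Type*} [Field A] [Fintype A] {p n : ℕ} (hn : p = 2 * n + 1)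
    (hp : (p : AddMonoid.End W) = 0) {J : AddSubgroup (AddMonoid.End W)} (hJ : IsDivSet J)
    (ι : A →+* AddMonoid.End W) (hιJ : ∀ k, ι k ∈ J)
    (hmax : ∀ x ∈ J, (∀ k, x * ι k = ι k * x) → ∃ k, ι k = x)
    (σ : RingAut A) (hodd : Odd (orderOf σ)) (hσ : σ ≠ 1) (y₁ y₂ : AddMonoid.End W)
    (h₁ : ∀ k, y₁ * ι k = ι (σ k) * y₁) (h₂ : ∀ k, y₂ * ι k = ι (σ⁻¹ k) * y₂)
    (hy₁ : y₁ ≠ 0) (hmem : y₁ + y₂ ∈ J) : False := by
  classical
  have : Nontrivial (AddMonoid.End W) := ⟨⟨y₁, 0, hy₁⟩⟩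
  have hpA : (p : A) = 0 := ι.injective (by rw [map_natCast, hp, map_zero])
  set m := orderOf σ with hm_def
  have hm0 : 0 < m := hodd.pos
  have hσm : σ ^ m = 1 := pow_orderOf_eq_one σ
  have hσi : ∀ i, 0 < i → i < m → σ ^ i ≠ 1 := fun i hi hlt =>
    pow_ne_one_of_lt_orderOf (Nat.pos_iff_ne_zero.1 hi) hlt
  have hodd' : m.Coprime 2 := Nat.coprime_two_right.2 hodd
  have hσ2 : σ ^ 2 ≠ 1 := fun h => hσ <| by
    have h2 : m ∣ 2 := orderOf_dvd_of_pow_eq_one h
    have : m = 1 := by rw [← Nat.gcd_eq_left h2]; exact hodd'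
    exact orderOf_eq_one_iff.1 this
  have hσinv : σ ≠ σ⁻¹ := fun h => hσ2 (by rw [pow_two]; nth_rewrite 2 [h]; exact mul_inv_cancel σ)
  -- the components of weight one carry all coefficients
  have hcoef : ∀ a, ι a * y₁ + ι (σ⁻¹ a) * y₂ ∈ J := by
    intro a
    let φ : A →+ A := AddMonoidHom.id A + σ.toRingHom.toAddMonoidHom
    have hinj : Function.Injective φ := by
      refine (injective_iff_map_eq_zero φ).2 fun l hl => ?_
      have hl' : σ l = -l := eq_neg_of_add_eq_zero_right hl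
      have hpow : ∀ i : ℕ, (σ ^ i) l = (-1) ^ i * l := by
        intro i
        induction i with
        | zero => simp
        | succ i ih =>
          rw [pow_succ', RingAut.mul_apply, ih, map_mul, map_pow, map_neg, map_one, hl', pow_succ]
          ring
      have h := hpow m
      rw [hσm, hodd.neg_one_pow, RingAut.one_apply, neg_one_mul] at h
      have h2 : ((2 * n + 1 : ℕ) : A) = 0 := hn ▸ hpA
      push_cast at h2
      linear_combination -(n : A) * h + l * h2
    obtain ⟨l, hl⟩ := (Finite.injective_iff_surjective.1 hinj) a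
    have hl' : l + σ l = a := hl
    have := hJ.sym_mem (hιJ l) hmem hJ.one
    convert this using 1
    rw [← hl', map_add σ⁻¹, inv_apply']
    simp only [map_add, mul_one, one_mul, mul_add, add_mul, h₁, h₂]
    abel
  -- the component of weight zero of an element of `J`
  have h0range : ∀ x ∈ J, ∃ k, ι k = proj ι 1 x := by
    intro x hx
    refine hmax _ ?_ fun k => proj_semi ι 1 x k
    have := proj_pair_mem ι hJ hιJ 1 hx
    rw [inv_one] at this
    exact IsDivSet.half_mem hn hp this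
  have hs11 := semi_mul ι h₁ h₁
  have hs22 := semi_mul ι h₂ h₂
  have hs12 := semi_mul ι h₁ h₂
  have hs21 := semi_mul ι h₂ h₁
  rw [mul_inv_cancel] at hs12
  rw [inv_mul_cancel] at hs21
  have hsq : ∀ a : A, (ι a * y₁ + ι (σ⁻¹ a) * y₂) * (ι a * y₁ + ι (σ⁻¹ a) * y₂) =
      ι (a * σ a) * (y₁ * y₁) + ι (σ⁻¹ a * σ⁻¹ (σ⁻¹ a)) * (y₂ * y₂) +
        ι (a * a) * (y₁ * y₂) + ι (σ⁻¹ a * σ⁻¹ a) * (y₂ * y₁) := by
    intro a
    simp only [add_mul, mul_add]
    rw [show ι a * y₁ * (ι a * y₁) = ι a * (y₁ * ι a) * y₁ by noncomm_ring,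
      show ι a * y₁ * (ι (σ⁻¹ a) * y₂) = ι a * (y₁ * ι (σ⁻¹ a)) * y₂ by noncomm_ring,
      show ι (σ⁻¹ a) * y₂ * (ι a * y₁) = ι (σ⁻¹ a) * (y₂ * ι a) * y₁ by noncomm_ring,
      show ι (σ⁻¹ a) * y₂ * (ι (σ⁻¹ a) * y₂) = ι (σ⁻¹ a) * (y₂ * ι (σ⁻¹ a)) * y₂ by noncomm_ring,
      h₁, h₁, h₂, h₂, apply_inv']
    simp only [map_mul]
    noncomm_ring
  have h1ne : (1 : RingAut A) ≠ σ * σ := fun h => hσ2 (by rw [pow_two]; exact h.symm)
  have h1ne' : (1 : RingAut A) ≠ σ⁻¹ * σ⁻¹ := fun h => hσ2 (by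
    rw [pow_two]; exact inv_eq_one.1 (by rw [mul_inv_rev]; exact h.symm))
  have huv : ∀ a : A, ∃ k, ι k = ι (a * a) * (y₁ * y₂) + ι (σ⁻¹ a * σ⁻¹ a) * (y₂ * y₁) := by
    intro a
    obtain ⟨k, hk⟩ := h0range _ (by
      have := hJ.pow_mem (hcoef a) 2
      rw [pow_two] at this
      exact this)
    refine ⟨k, hk.trans ?_⟩
    rw [hsq, proj_add, proj_add, proj_add, proj_of_semi ι 1 _ (semi_smul ι hs11 _),
      proj_of_semi ι 1 _ (semi_smul ι hs22 _), proj_of_semi ι 1 _ (semi_smul ι hs12 _),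
      proj_of_semi ι 1 _ (semi_smul ι hs21 _), if_neg h1ne, if_neg h1ne', if_pos rfl, if_pos rfl]
    simp
  obtain ⟨a, ha⟩ := exists_sq_move hn hpA (σ := σ⁻¹) (fun h => hσ (inv_eq_one.1 h))
  obtain ⟨k1, hk1⟩ := huv 1
  obtain ⟨k2, hk2⟩ := huv a
  simp only [map_one, mul_one, one_mul] at hk1
  set δ := a * a - σ⁻¹ a * σ⁻¹ a with hδdef
  have hδ : δ ≠ 0 := fun h => ha (by rw [map_mul]; exact (sub_eq_zero.1 h).symm)
  set c := δ⁻¹ * (k2 - σ⁻¹ a * σ⁻¹ a * k1) with hc_def
  have hc : ι c = y₁ * y₂ := by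
    have e : ι (k2 - σ⁻¹ a * σ⁻¹ a * k1) = ι δ * (y₁ * y₂) := by
      rw [map_sub, map_mul, hk1, hk2, hδdef, map_sub, sub_mul, mul_add]
      abel
    rw [hc_def, map_mul, e, ← mul_assoc, ← map_mul, inv_mul_cancel₀ hδ, map_one, one_mul]
  set d := k1 - c with hd_def
  have hd : ι d = y₂ * y₁ := by rw [hd_def, map_sub, hk1, hc, add_sub_cancel_left]
  have hcd : c = σ d := by
    by_contra hne
    have h0 : ι (c - σ d) * y₁ = 0 := by
      rw [map_sub, sub_mul, ← h₁, hc, hd, mul_assoc, sub_self]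
    exact hy₁ ((((isUnit_iff_ne_zero.2 (sub_ne_zero.2 hne)).map ι)).mul_right_eq_zero.1 h0)
  -- the m-th power
  have hP0m : proj ι 1 ((y₁ + y₂) ^ m) = y₁ ^ m + y₂ ^ m := by
    rw [pow_eq_sum_grade, proj_sum]
    have h : ∀ i ∈ range (m + 1), proj ι 1 (grade y₁ y₂ m i) =
        if i = 0 ∨ i = m then grade y₁ y₂ m i else 0 := by
      intro i hi
      rw [proj_of_semi ι 1 _ (grade_semi ι h₁ h₂ m i)]
      refine if_congr ⟨fun h => ?_, fun h => ?_⟩ rfl rfl
      · have hd : (m : ℤ) ∣ (m : ℤ) - 2 * i := orderOf_dvd_iff_zpow_eq_one.2 h.symm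
        have h' : (m : ℤ) ∣ ((2 * i : ℕ) : ℤ) := by
          push_cast
          exact (dvd_sub_right (dvd_refl _)).1 hd
        have h'' : m ∣ i := hodd'.dvd_of_dvd_mul_left (Int.natCast_dvd_natCast.1 h')
        have hi' := mem_range.1 hi
        rcases Nat.eq_zero_or_pos i with h0 | h0
        · exact Or.inl h0
        · exact Or.inr (le_antisymm (by omega) (Nat.le_of_dvd h0 h''))
      · rcases h with rfl | rfl
        · simp [hσm]
        · rw [show ((m : ℤ) - 2 * m) = -(m : ℤ) by ring, zpow_neg, zpow_natCast, hσm, inv_one]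
    rw [Finset.sum_congr rfl h, ← Finset.sum_filter,
      show (range (m + 1)).filter (fun i => i = 0 ∨ i = m) = {0, m} by
        ext i
        simp only [mem_filter, mem_range, mem_insert, mem_singleton]
        omega,
      Finset.sum_pair (by omega), grade_zero, grade_self]
  obtain ⟨t, ht⟩ := h0range _ (hJ.pow_mem hmem m)
  rw [hP0m] at ht
  have hyne : ∀ γ : A, y₁ + y₂ ≠ ι γ := by
    intro γ h
    have e := congrArg (proj ι σ) h
    rw [proj_add, proj_of_semi ι σ _ h₁, proj_of_semi ι σ _ h₂, if_pos rfl, if_neg hσinv, add_zero,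
      proj_of_semi ι σ 1 (fun k => by rw [RingAut.one_apply, ← map_mul, ← map_mul, mul_comm]),
      if_neg hσ] at e
    exact hy₁ e
  have hkill : ∀ (γ : A) (v : W), v ≠ 0 → (y₁ + y₂) v = ι γ v → False := by
    intro γ v hv h
    have h0 : (y₁ + y₂ - ι γ) v = 0 := by
      show (y₁ + y₂) v - ι γ v = 0
      rw [h, sub_self]
    refine hv (injective_of_isUnit (hJ.isUnit (J.sub_mem hmem (hιJ γ)) ?_) h0)
    exact sub_ne_zero.2 (hyne γ)
  rcases eq_or_ne c 0 with hc0 | hc0
  · -- orthogonal components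
    have h12 : y₁ * y₂ = 0 := by rw [← hc, hc0, map_zero]
    have h21 : y₂ * y₁ = 0 := by
      rw [← hd]
      rw [hc0] at hcd
      rw [(map_eq_zero σ.toRingHom).1 hcd.symm, map_zero]
    have hpow : ∀ j, (y₁ + y₂) ^ (j + 1) = y₁ ^ (j + 1) + y₂ ^ (j + 1) := by
      intro j
      induction j with
      | zero => simp
      | succ j ih =>
        rw [pow_succ', ih, add_mul, mul_add, mul_add]
        have e1 : y₁ * y₂ ^ (j + 1) = 0 := by rw [pow_succ', ← mul_assoc, h12, zero_mul]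
        have e2 : y₂ * y₁ ^ (j + 1) = 0 := by rw [pow_succ', ← mul_assoc, h21, zero_mul]
        rw [e1, e2, add_zero, zero_add, ← pow_succ', ← pow_succ']
    obtain ⟨j, hj⟩ : ∃ j, m = j + 1 := ⟨m - 1, by omega⟩
    have hym : (y₁ + y₂) ^ m = ι t := by rw [ht, hj, hpow]
    have hyU : IsUnit (y₁ + y₂) := hJ.isUnit hmem fun h => hyne 0 (h.trans (map_zero ι).symm)
    have ht0 : t ≠ 0 := by
      intro h
      rw [h, map_zero] at hym
      exact not_isUnit_zero (hym ▸ hyU.pow m)
    have hσt : σ t = t := by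
      by_contra hne
      have e : (y₁ + y₂) * ι t = ι t * (y₁ + y₂) := by rw [← hym, ← pow_succ', pow_succ]
      have e2 := congrArg (proj ι σ) e
      rw [add_mul, mul_add, h₁, h₂, proj_add, proj_add, proj_of_semi ι σ _ (semi_smul ι h₁ _),
        proj_of_semi ι σ _ (semi_smul ι h₂ _), proj_of_semi ι σ _ (semi_smul ι h₁ _),
        proj_of_semi ι σ _ (semi_smul ι h₂ _), if_pos rfl, if_neg hσinv, add_zero, if_pos rfl, if_neg hσinv,
        add_zero] at e2
      have h0 : ι (σ t - t) * y₁ = 0 := by rw [map_sub, sub_mul, e2, sub_self]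
      exact hy₁ ((((isUnit_iff_ne_zero.2 (sub_ne_zero.2 hne)).map ι)).mul_right_eq_zero.1 h0)
    obtain ⟨γ, hγ0, hγ⟩ := exists_nrm_eq σ hm0 hσm hσi hσt ht0
    obtain ⟨w, hw⟩ : ∃ w, y₁ w ≠ 0 := by
      by_contra hcon
      push Not at hcon
      exact hy₁ (AddMonoidHom.ext hcon)
    have hN : ∀ v ∈ AddMonoidHom.range y₁, y₂ v = 0 := by
      rintro _ ⟨x, rfl⟩
      show (y₂ * y₁) x = 0
      rw [h21]
      rfl
    obtain ⟨v, hvN, hv0, hv⟩ := exists_semifix ι σ hm0 hσi (ι γ⁻¹ * y₁) (semi_smul ι h₁ γ⁻¹)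
      (AddMonoidHom.range y₁)
      (fun k => by
        rintro _ ⟨x, rfl⟩
        refine ⟨ι (σ⁻¹ k) x, ?_⟩
        show (y₁ * ι (σ⁻¹ k)) x = _
        rw [h₁, apply_inv']
        rfl)
      (fun x _ => by
        refine ⟨ι (σ⁻¹ γ⁻¹) (x), ?_⟩
        show (y₁ * ι (σ⁻¹ γ⁻¹)) x = _
        rw [h₁, apply_inv'])
      (w := y₁ w) ⟨w, rfl⟩ hw
      (fun x hx => by
        have hn' : nrm σ m γ⁻¹ = t⁻¹ := by
          rw [← hγ, nrm, nrm, ← Finset.prod_inv_distrib]
          exact Finset.prod_congr rfl fun i _ => map_inv₀ _ _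
        rw [pow_smul_semilinear ι σ h₁, hn']
        have hy : ι t x = (y₁ ^ m) x := by
          rw [← hym, hj, hpow]
          show (y₁ ^ (j + 1)) x + (y₂ ^ (j + 1)) x = _
          rw [pow_succ y₂, end_mul_apply, hN x hx, map_zero, add_zero]
        show ι t⁻¹ ((y₁ ^ m) x) = x
        rw [← hy, ← end_mul_apply, ← map_mul, inv_mul_cancel₀ ht0, map_one]
        rfl)
    refine hkill γ v hv0 ?_
    show y₁ v + y₂ v = _
    rw [hN v hvN, add_zero]
    conv_rhs => rw [← hv]
    show y₁ v = (ι γ * (ι γ⁻¹ * y₁)) v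
    rw [← mul_assoc, ← map_mul, mul_inv_cancel₀ hγ0, map_one, one_mul]
  · -- both components are units
    have hd0 : d ≠ 0 := fun h => hc0 (by rw [hcd, h, map_zero])
    have hy₁inj : ∀ w, y₁ w = 0 → w = 0 := fun w hw => by
      refine injective_of_isUnit ((isUnit_iff_ne_zero.2 hd0).map ι) ?_
      rw [hd, end_mul_apply, hw, map_zero]
    have hy₁U : IsUnit y₁ := isUnit_of_ker hy₁inj
    have hy₂U : IsUnit y₂ := isUnit_of_ker fun w hw => by
      refine injective_of_isUnit ((isUnit_iff_ne_zero.2 hc0).map ι) ?_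
      rw [hc, end_mul_apply, hw, map_zero]
    set z := y₁ ^ m with hz_def
    have hzι : ∀ k, z * ι k = ι k * z := fun k => by rw [hz_def, pow_semilinear ι σ h₁, hσm, RingAut.one_apply]
    have hw2 : y₂ ^ m = ι t - z := by rw [ht, add_sub_cancel_left]
    have hyw : y₁ * y₂ ^ m = y₂ ^ m * y₁ := by
      obtain ⟨j, hj⟩ : ∃ j, m = j + 1 := ⟨m - 1, by omega⟩
      rw [hj, pow_succ' y₂, ← mul_assoc, ← hc, ← pow_succ', pow_succ, mul_assoc, ← hd,
        pow_semilinear ι σ⁻¹ h₂, hcd]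
      congr 2
      have : (σ⁻¹) ^ j = σ := by
        rw [inv_pow, inv_eq_iff_mul_eq_one, ← pow_succ, ← hj, hσm]
      rw [this]
    have hzy : z * y₁ = y₁ * z := by rw [hz_def, ← pow_succ, pow_succ']
    have hσt : σ t = t := by
      by_contra hne
      have e : y₁ * ι t = ι t * y₁ := by rw [ht, mul_add, add_mul, hyw, hzy]
      rw [h₁] at e
      have h0 : ι (σ t - t) * y₁ = 0 := by rw [map_sub, sub_mul, e, sub_self]
      exact hy₁ ((((isUnit_iff_ne_zero.2 (sub_ne_zero.2 hne)).map ι)).mul_right_eq_zero.1 h0)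
    have hN : ∀ j, ∃ k, ι k = y₁ ^ j * y₂ ^ j := by
      intro j
      induction j with
      | zero => exact ⟨1, by simp⟩
      | succ j ih =>
        obtain ⟨k, hk⟩ := ih
        refine ⟨σ k * c, ?_⟩
        rw [map_mul, hc, ← mul_assoc, ← h₁, hk, pow_succ', pow_succ]
        noncomm_ring
    obtain ⟨nn, hnn⟩ := hN m
    rw [← hz_def, hw2] at hnn
    have hnU : IsUnit (ι nn) := by rw [hnn, ← hw2]; exact (hy₁U.pow m).mul (hy₂U.pow m)
    have hn0 : nn ≠ 0 := fun h => not_isUnit_zero (M₀ := AddMonoid.End W) (by rwa [h, map_zero] at hnU)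
    have hσn : σ nn = nn := by
      by_contra hne
      have e : y₁ * ι nn = ι nn * y₁ := by
        rw [hnn, ← hw2, ← mul_assoc, ← hzy, mul_assoc, hyw, ← mul_assoc]
      rw [h₁] at e
      have h0 : ι (σ nn - nn) * y₁ = 0 := by rw [map_sub, sub_mul, e, sub_self]
      exact hy₁ ((((isUnit_iff_ne_zero.2 (sub_ne_zero.2 hne)).map ι)).mul_right_eq_zero.1 h0)
    have hquad : z * z = ι t * z - ι nn := by
      rw [hnn, mul_sub, ← hzι t, sub_sub_cancel]
    by_cases hroot : ∀ ρ : A, IsUnit (z - ι ρ)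
    · -- the quadratic field
      let K : Subring (AddMonoid.End W) :=
        { carrier := {x | ∃ k l : A, ι k + ι l * z = x}
          zero_mem' := ⟨0, 0, by simp⟩
          one_mem' := ⟨1, 0, by simp⟩
          add_mem' := by
            rintro _ _ ⟨k, l, rfl⟩ ⟨k', l', rfl⟩
            exact ⟨k + k', l + l', by simp only [map_add, add_mul]; abel⟩
          neg_mem' := by
            rintro _ ⟨k, l, rfl⟩
            exact ⟨-k, -l, by simp only [map_neg, neg_mul]; abel⟩
          mul_mem' := by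
            rintro _ _ ⟨k, l, rfl⟩ ⟨k', l', rfl⟩
            refine ⟨k * k' - l * l' * nn, k * l' + l * k' + l * l' * t, ?_⟩
            have e : (ι k + ι l * z) * (ι k' + ι l' * z) =
                ι k * ι k' + ι k * ι l' * z + ι l * (z * ι k') + ι l * (z * ι l') * z := by noncomm_ring
            rw [e, hzι, hzι, show ι l * (ι l' * z) * z = ι l * ι l' * (z * z) by noncomm_ring, hquad]
            simp only [map_add, map_sub, map_mul]
            noncomm_ring }
      have hKc : ∀ a ∈ K, ∀ b ∈ K, a * b = b * a := by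
        rintro _ ⟨k, l, rfl⟩ _ ⟨k', l', rfl⟩
        have key : ∀ a b a' b' : A, (ι a + ι b * z) * (ι a' + ι b' * z) =
            ι (a * a') + ι (a * b' + b * a') * z + ι (b * b') * (z * z) := by
          intro a b a' b'
          have e : (ι a + ι b * z) * (ι a' + ι b' * z) =
              ι a * ι a' + ι a * ι b' * z + ι b * (z * ι a') + ι b * (z * ι b') * z := by noncomm_ring
          rw [e, hzι, hzι]
          simp only [map_add, map_mul]
          noncomm_ring
        rw [key, key, mul_comm k k', mul_comm l l', show k * l' + l * k' = k' * l + l' * k by ring]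
      have hKu : ∀ a ∈ K, a ≠ 0 → IsUnit a := by
        rintro _ ⟨k, l, rfl⟩ h0
        rcases eq_or_ne l 0 with rfl | hl
        · rw [map_zero, zero_mul, add_zero] at h0 ⊢
          exact (isUnit_iff_ne_zero.2 fun h => h0 (by rw [h, map_zero])).map ι
        · have e : ι k + ι l * z = ι l * (z - ι (-(k / l))) := by
            rw [map_neg, sub_neg_eq_add, mul_add, ← map_mul, mul_div_cancel₀ _ hl, add_comm]
          rw [e]
          exact ((isUnit_iff_ne_zero.2 hl).map ι).mul (hroot _)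
      obtain ⟨B, iB, fB, ιB, hιB⟩ := exists_field_of_subring K hKc hKu
      have hB : ∀ x, x ∈ K ↔ ∃ b, ιB b = x := fun x => by rw [← hιB]; exact RingHom.mem_range
      have hBinj := ιB.injective
      have hsemiB : ∀ b, ∃ b', y₁ * ιB b = ιB b' * y₁ := by
        intro b
        obtain ⟨k, l, hkl⟩ := (hB _).2 ⟨b, rfl⟩
        obtain ⟨b', hb'⟩ := (hB (ι (σ k) + ι (σ l) * z)).1 ⟨σ k, σ l, rfl⟩
        refine ⟨b', ?_⟩
        rw [hb', ← hkl, mul_add, add_mul, h₁, ← mul_assoc, h₁, mul_assoc, ← hzy, ← mul_assoc]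
      choose sB hsB using hsemiB
      have hcancel : ∀ {x x' : AddMonoid.End W}, x * y₁ = x' * y₁ → x = x' := fun h => hy₁U.mul_right_cancel h
      let σ₀ : B →+* B :=
        { toFun := sB
          map_one' := hBinj (hcancel (by rw [← hsB, map_one, mul_one, one_mul]))
          map_mul' := fun a b => hBinj (hcancel (by
            rw [← hsB, map_mul, map_mul, ← mul_assoc, hsB, mul_assoc, hsB, ← mul_assoc]))
          map_zero' := hBinj (hcancel (by rw [← hsB, map_zero, mul_zero, zero_mul]))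
          map_add' := fun a b => hBinj (hcancel (by
            rw [← hsB, map_add, map_add, mul_add, add_mul, hsB, hsB])) }
      let σB : RingAut B := RingEquiv.ofBijective σ₀ (Finite.injective_iff_bijective.1 σ₀.injective)
      have hσB : ∀ b, y₁ * ιB b = ιB (σB b) * y₁ := hsB
      have hpowB : ∀ (i : ℕ) b, y₁ ^ i * ιB b = ιB ((σB ^ i) b) * y₁ ^ i := pow_semilinear ιB σB hσB
      have hordB : ∀ i, 0 < i → i < m → σB ^ i ≠ 1 := by
        intro i hi him h
        refine hσi i hi him (RingEquiv.ext fun k => ι.injective ?_)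
        obtain ⟨b, hb⟩ := (hB (ι k)).1 ⟨k, 0, by simp⟩
        refine (hy₁U.pow i).mul_right_cancel ?_
        rw [← pow_semilinear ι σ h₁, RingAut.one_apply, ← hb, hpowB, h, RingAut.one_apply]
      have hperB : σB ^ m = 1 := by
        refine RingEquiv.ext fun b => hBinj ((hy₁U.pow m).mul_right_cancel ?_)
        obtain ⟨k, l, hkl⟩ := (hB _).2 ⟨b, rfl⟩
        rw [← hpowB, RingAut.one_apply, ← hz_def, ← hkl, mul_add, add_mul, hzι, ← mul_assoc, hzι]
      obtain ⟨zB, hzB⟩ := (hB z).1 ⟨0, 1, by simp⟩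
      have hzfix : σB zB = zB := hBinj (hcancel (by rw [← hσB, hzB, hzy]))
      have hz0 : zB ≠ 0 := fun h => by
        have := hy₁U.pow m
        rw [← hz_def, ← hzB, h, map_zero] at this
        exact not_isUnit_zero this
      obtain ⟨γ, hγ0, hγ⟩ := exists_nrm_eq σB hm0 hperB hordB hzfix hz0
      obtain ⟨w, hw⟩ : ∃ w, y₁ w ≠ 0 := by
        by_contra hcon
        push Not at hcon
        exact hy₁ (AddMonoidHom.ext hcon)
      obtain ⟨v, -, hv0, hv⟩ := exists_semifix ιB σB hm0 hordB (ιB γ⁻¹ * y₁) (semi_smul ιB hσB γ⁻¹) ⊤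
        (fun _ _ _ => trivial) (fun _ _ => trivial) (w := y₁ w) trivial hw (fun x _ => by
          have hn' : nrm σB m γ⁻¹ = zB⁻¹ := by
            rw [← hγ, nrm, nrm, ← Finset.prod_inv_distrib]
            exact Finset.prod_congr rfl fun i _ => map_inv₀ _ _
          rw [pow_smul_semilinear ιB σB hσB, hn', ← hz_def, ← hzB, ← map_mul, inv_mul_cancel₀ hz0, map_one]
          rfl)
      have hv1 : y₁ v = ιB γ v := by
        conv_rhs => rw [← hv]
        show y₁ v = (ιB γ * (ιB γ⁻¹ * y₁)) v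
        rw [← mul_assoc, ← map_mul, mul_inv_cancel₀ hγ0, map_one, one_mul]
      obtain ⟨cB, hcB⟩ := (hB (ι c)).1 ⟨c, 0, by simp⟩
      rw [hc] at hcB
      set δv := σB⁻¹ (cB / γ) with hδv
      have hv2 : y₂ v = ιB δv v := second_apply ιB hy₁inj hσB hcB hv1
        (by rw [hδv, apply_inv', div_mul_cancel₀ _ hγ0])
      -- every element in play maps `v` into `B v`
      let T : AddSubgroup W :=
        (AddMonoidHom.mk' (fun b : B => ιB b v) fun a b => by simp only [map_add]; rfl).range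
      have hTy1 : ∀ x ∈ T, y₁ x ∈ T := by
        rintro _ ⟨b, rfl⟩
        refine ⟨σB b * γ, ?_⟩
        show ιB (σB b * γ) v = (y₁ * ιB b) v
        rw [hσB, map_mul, end_mul_apply, end_mul_apply, hv1]
      have hTy2 : ∀ x ∈ T, y₂ x ∈ T := by
        rintro _ ⟨b, rfl⟩
        obtain ⟨k, l, hkl⟩ := (hB _).2 ⟨b, rfl⟩
        obtain ⟨b', hb'⟩ := (hB (ι (σ⁻¹ k) + ι (σ⁻¹ l) * z)).1 ⟨σ⁻¹ k, σ⁻¹ l, rfl⟩
        refine ⟨b' * δv, ?_⟩
        show ιB (b' * δv) v = (y₂ * ιB b) v
        have e : y₂ * ιB b = ιB b' * y₂ := by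
          have hy₂z : y₂ * z = z * y₂ := by
            have e' : y₂ * (ι t - z) = (ι t - z) * y₂ := by rw [← hw2, ← pow_succ', pow_succ]
            rw [mul_sub, sub_mul, h₂] at e'
            have hti : σ⁻¹ t = t := by
              conv_lhs => rw [← hσt]
              exact inv_apply' σ t
            rw [hti] at e'
            exact sub_right_injective e'
          rw [hb', ← hkl, mul_add, add_mul, h₂, ← mul_assoc, h₂, mul_assoc, hy₂z, ← mul_assoc]
        rw [e, map_mul, end_mul_apply, end_mul_apply, hv2]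
      have hvT : v ∈ T := ⟨1, by show ιB 1 v = v; rw [map_one]; rfl⟩
      have hTι : ∀ k, ∀ x ∈ T, ι k x ∈ T := by
        rintro k _ ⟨b, rfl⟩
        obtain ⟨b', hb'⟩ := (hB (ι k)).1 ⟨k, 0, by simp⟩
        exact ⟨b' * b, by show ιB (b' * b) v = ι k (ιB b v); rw [map_mul, hb']; rfl⟩
      let φ : A × A → AddMonoid.End W := fun q => ι q.1 + (ι q.2 * y₁ + ι (σ⁻¹ q.2) * y₂)
      have hφJ : ∀ q, φ q ∈ J := fun q => J.add_mem (hιJ _) (hcoef _)
      have hφT : ∀ q, φ q v ∈ T := fun q =>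
        T.add_mem (hTι _ _ hvT) (T.add_mem (hTι _ _ (hTy1 _ hvT)) (hTι _ _ (hTy2 _ hvT)))
      have hprojφ : ∀ q : A × A, ∀ τ : RingAut A, proj ι τ (φ q) =
          (if τ = 1 then ι q.1 else 0) + ((if τ = σ then ι q.2 * y₁ else 0) +
            if τ = σ⁻¹ then ι (σ⁻¹ q.2) * y₂ else 0) := by
        intro q τ
        rw [proj_add, proj_add,
          proj_of_semi ι τ 1 (fun k => by rw [RingAut.one_apply, ← map_mul, ← map_mul, mul_comm]),
          proj_of_semi ι τ _ (semi_smul ι h₁ _), proj_of_semi ι τ _ (semi_smul ι h₂ _)]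
      have hφinj : Function.Injective φ := by
        intro q q' hqq
        have e0 := congrArg (proj ι 1) hqq
        rw [hprojφ, hprojφ, if_pos rfl, if_pos rfl, if_neg (Ne.symm hσ),
          if_neg (fun h => hσ (inv_eq_one.1 h.symm)), if_neg (Ne.symm hσ),
          if_neg (fun h => hσ (inv_eq_one.1 h.symm))] at e0
        simp only [add_zero] at e0
        have e1 := congrArg (proj ι σ) hqq
        rw [hprojφ, hprojφ, if_neg hσ, if_pos rfl, if_neg hσinv, if_neg hσ, if_pos rfl, if_neg hσinv] at e1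
        simp only [add_zero, zero_add] at e1
        exact Prod.ext (ι.injective e0) (ι.injective (hy₁U.mul_right_cancel e1))
      let ψ : A × A → T := fun q => ⟨φ q v, hφT q⟩
      have hψinj : Function.Injective ψ := by
        intro q q' hqq
        refine hφinj (by_contra fun hne => hv0 ?_)
        refine injective_of_isUnit (hJ.isUnit (J.sub_mem (hφJ q) (hφJ q')) (sub_ne_zero.2 hne)) ?_
        show φ q v - φ q' v = 0
        rw [show φ q v = φ q' v from congrArg Subtype.val hqq, sub_self]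
      have hTcard : Nat.card T ≤ Nat.card (A × A) := by
        refine Nat.card_le_card_of_surjective (fun q : A × A => (⟨(ι q.1 + ι q.2 * z) v, ?_⟩ : T)) ?_
        · obtain ⟨b, hb⟩ := (hB _).1 ⟨q.1, q.2, rfl⟩
          exact ⟨b, by show ιB b v = _; rw [hb]⟩
        · rintro ⟨_, b, rfl⟩
          obtain ⟨k, l, hkl⟩ := (hB _).2 ⟨b, rfl⟩
          exact ⟨(k, l), Subtype.ext (by show (ι k + ι l * z) v = ιB b v; rw [hkl])⟩
      have hψsurj : Function.Surjective ψ := (hψinj.bijective_of_nat_card_le hTcard).2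
      obtain ⟨q, hq⟩ := hψsurj ⟨((y₁ + y₂) * (y₁ + y₂)) v, by
        rw [end_mul_apply]
        have hy : ∀ x ∈ T, (y₁ + y₂) x ∈ T := fun x hx => T.add_mem (hTy1 x hx) (hTy2 x hx)
        exact hy _ (hy _ hvT)⟩
      have hq' : φ q = (y₁ + y₂) * (y₁ + y₂) := by
        by_contra hne
        refine hv0 (injective_of_isUnit (hJ.isUnit (J.sub_mem (hφJ q)
          (by have := hJ.pow_mem hmem 2; rwa [pow_two] at this)) (sub_ne_zero.2 hne)) ?_)
        show φ q v - ((y₁ + y₂) * (y₁ + y₂)) v = 0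
        rw [show φ q v = ((y₁ + y₂) * (y₁ + y₂)) v from congrArg Subtype.val hq, sub_self]
      have e := congrArg (proj ι (σ * σ)) hq'
      rw [hprojφ, add_mul, mul_add, mul_add, proj_add, proj_add, proj_add, proj_of_semi ι _ _ hs11,
        proj_of_semi ι _ _ hs12, proj_of_semi ι _ _ hs21, proj_of_semi ι _ _ hs22] at e
      simp only [Ne.symm h1ne, show σ * σ ≠ σ from fun h => hσ (mul_eq_left.1 h), if_true, if_false] at e
      have hne4 : σ * σ ≠ σ⁻¹ * σ⁻¹ := fun h => by
        have h4 : σ ^ 4 = 1 := by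
          rw [show (4 : ℕ) = 2 + 2 from rfl, pow_add, pow_two]
          nth_rewrite 2 [h]
          rw [mul_assoc, ← mul_assoc σ σ⁻¹, mul_inv_cancel, one_mul, mul_inv_cancel]
        have h2 : m ∣ 2 * 2 := orderOf_dvd_of_pow_eq_one h4
        have h1 : m ∣ 2 := hodd'.dvd_of_dvd_mul_left h2
        exact hσ2 (orderOf_dvd_iff_pow_eq_one.1 h1)
      simp only [hne4, if_false, zero_add, add_zero] at e
      by_cases h3 : σ * σ = σ⁻¹
      · rw [if_pos h3] at e
        have hm3 : m = 3 := by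
          have h' : σ ^ 3 = 1 := by rw [pow_succ, pow_two, h3, inv_mul_cancel]
          have hdvd : m ∣ 3 := orderOf_dvd_of_pow_eq_one h'
          rcases (Nat.dvd_prime Nat.prime_three).1 hdvd with h | h
          · exact absurd (orderOf_eq_one_iff.1 h) hσ
          · exact h
        refine not_isUnit_zero (M₀ := AddMonoid.End W) ?_
        have h0 : z - ι (q.2 * c) = 0 := by
          rw [hz_def, hm3, pow_succ', pow_two, ← e, ← mul_assoc, h₁, apply_inv', mul_assoc, ← hc, ← map_mul,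
            sub_self]
        exact h0 ▸ hroot (q.2 * c)
      · rw [if_neg h3] at e
        exact not_isUnit_zero (M₀ := AddMonoid.End W) (by rw [e]; exact hy₁U.mul hy₁U)
    · push Not at hroot
      obtain ⟨ρ, hρ⟩ := hroot
      obtain ⟨w, hw0, hw⟩ := exists_ker_of_not_isUnit hρ
      have hzw : z w = ι ρ w := sub_eq_zero.1 hw
      have hρq : ρ * ρ - t * ρ + nn = 0 := by
        by_contra hne
        refine hw0 (injective_of_isUnit ((isUnit_iff_ne_zero.2 hne).map ι) ?_)
        have e1 : (z * z) w = ι (ρ * ρ) w := by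
          rw [end_mul_apply, hzw, ← end_mul_apply, hzι, end_mul_apply, hzw, map_mul]; rfl
        rw [hquad] at e1
        have e2 : (ι t * z) w - ι nn w = ι (ρ * ρ) w := e1
        rw [end_mul_apply, hzw, ← end_mul_apply, ← map_mul] at e2
        rw [map_add, map_sub]
        show ι (ρ * ρ) w - ι (t * ρ) w + ι nn w = 0
        rw [← e2]; abel
      have hρ0 : ρ ≠ 0 := fun h => hn0 (by rw [h] at hρq; simpa using hρq)
      have hσρ : σ ρ = ρ := by
        have hq' := congrArg σ hρq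
        simp only [map_add, map_sub, map_mul, hσt, hσn, map_zero] at hq'
        have h : (σ ρ - ρ) * (σ ρ + ρ - t) = 0 := by linear_combination hq' - hρq
        rcases mul_eq_zero.1 h with h | h
        · exact sub_eq_zero.1 h
        have hρ2 : σ ρ = t - ρ := by linear_combination h
        have h2 : (σ ^ 2) ρ = ρ := by
          rw [pow_two, RingAut.mul_apply, hρ2, map_sub, hσt, hρ2]; ring
        obtain ⟨j, hj⟩ := hodd
        have hall : ∀ i, ((σ ^ 2) ^ i) ρ = ρ := by
          intro i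
          induction i with
          | zero => rfl
          | succ i ih => rw [pow_succ, RingAut.mul_apply, h2, ih]
        have e := hall (j + 1)
        rw [← pow_mul, show 2 * (j + 1) = m + 1 by omega, pow_succ, RingAut.mul_apply, hσm, RingAut.one_apply] at e
        exact e
      have hcomm : ∀ x, y₁ ((z - ι ρ) x) = (z - ι ρ) (y₁ x) := by
        intro x
        show (y₁ * (z - ι ρ)) x = ((z - ι ρ) * y₁) x
        rw [mul_sub, sub_mul, h₁, hσρ, hzy]
      obtain ⟨γ, hγ0, hγ⟩ := exists_nrm_eq σ hm0 hσm hσi hσρ hρ0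
      let N₀ : AddSubgroup W := AddMonoidHom.ker ((z - ι ρ : AddMonoid.End W) : W →+ W)
      have hmemN : ∀ {x : W}, x ∈ N₀ ↔ z x = ι ρ x := fun {x} => sub_eq_zero (a := z x) (b := ι ρ x)
      have hmemN' : ∀ {x : W}, x ∈ N₀ ↔ (z - ι ρ) x = 0 := fun {x} => Iff.rfl
      have hιN : ∀ k, ∀ x ∈ N₀,
          ι k x ∈ N₀ := by
        intro k x hx
        rw [hmemN] at hx ⊢
        rw [← end_mul_apply, hzι, end_mul_apply, hx, ← end_mul_apply, ← map_mul, mul_comm, map_mul, end_mul_apply]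
      obtain ⟨v, hvN, hv0, hv⟩ := exists_semifix ι σ hm0 hσi (ι γ⁻¹ * y₁) (semi_smul ι h₁ γ⁻¹)
        (N₀) hιN
        (fun x hx => by
          rw [end_mul_apply]
          refine hιN _ _ ?_
          rw [hmemN'] at hx ⊢
          exact (hcomm x).symm.trans (by rw [hx, map_zero]))
        (w := w) (hmemN'.2 hw) hw0
        (fun x hx => by
          have hn' : nrm σ m γ⁻¹ = ρ⁻¹ := by
            rw [← hγ, nrm, nrm, ← Finset.prod_inv_distrib]
            exact Finset.prod_congr rfl fun i _ => map_inv₀ _ _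
          rw [pow_smul_semilinear ι σ h₁, hn', end_mul_apply, ← hz_def, hmemN.1 hx, ← end_mul_apply,
            ← map_mul, inv_mul_cancel₀ hρ0, map_one]
          rfl)
      have hv1 : y₁ v = ι γ v := by
        conv_rhs => rw [← hv]
        show y₁ v = (ι γ * (ι γ⁻¹ * y₁)) v
        rw [← mul_assoc, ← map_mul, mul_inv_cancel₀ hγ0, map_one, one_mul]
      have hv2 := second_apply ι hy₁inj h₁ hc hv1 (δ := σ⁻¹ (c / γ)) (by rw [apply_inv', div_mul_cancel₀ _ hγ0])
      refine hkill (γ + σ⁻¹ (c / γ)) v hv0 ?_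
      show y₁ v + y₂ v = _
      rw [hv1, hv2, map_add]
      rfl

/-- Finite Jordan division sets of odd characteristic are commutative. -/
theorem IsDivSet.comm [Nontrivial W] {p : ℕ} [hpp : Fact p.Prime] (hp2 : p ≠ 2)
    (hp : (p : AddMonoid.End W) = 0) : ∀ (J : AddSubgroup (AddMonoid.End W)), IsDivSet J →
      ∀ a ∈ J, ∀ b ∈ J, a * b = b * a := by
  classical
  obtain ⟨n, hn⟩ : ∃ n, p = 2 * n + 1 := hpp.out.odd_of_ne_two hp2
  obtain ⟨w₀, hw₀⟩ := exists_ne (0 : W)
  have : Nontrivial (AddMonoid.End W) := ⟨⟨1, 0, fun h => hw₀ (by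
    have := DFunLike.congr_fun h w₀
    exact this)⟩⟩
  intro J
  induction J using WellFoundedLT.induction with
  | ind J ih =>
  intro hJ
  obtain ⟨A, iA, fA, ι, hιJ, hmax⟩ := exists_max_field hJ hn hp
  suffices hall : ∀ x ∈ J, ∀ k, x * ι k = ι k * x by
    intro a ha b hb
    obtain ⟨ka, rfl⟩ := hmax a ha (hall a ha)
    obtain ⟨kb, rfl⟩ := hmax b hb (hall b hb)
    rw [← map_mul, ← map_mul, mul_comm]
  intro x hx
  have hpA : (p : A) = 0 := ι.injective (by rw [map_natCast, hp, map_zero])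
  haveI : CharP A p := by
    refine (CharP.charP_iff_prime_eq_zero hpp.out).2 hpA
  haveI : Finite (RingAut A) := Finite.of_injective (fun f : RingAut A => (f : A → A)) DFunLike.coe_injective
  letI : Fintype (RingAut A) := Fintype.ofFinite _
  by_contra hcon
  push Not at hcon
  obtain ⟨k₀, hk₀⟩ := hcon
  obtain ⟨σ, hσ, hσx⟩ : ∃ σ : RingAut A, σ ≠ 1 ∧ proj ι σ x ≠ 0 := by
    by_contra hcon
    push Not at hcon
    apply hk₀
    have hs := sum_proj (p := p) ι x
    rw [Finset.sum_eq_single (1 : RingAut A) (fun τ _ h => hcon τ h) (fun h => absurd (Finset.mem_univ _) h)] at hs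
    rw [← hs]
    exact proj_semi ι 1 x k₀
  have hmem := proj_pair_mem ι hJ hιJ σ hx
  set y₁ := proj ι σ x with hy₁_def
  set y₂ := proj ι σ⁻¹ x with hy₂_def
  have h₁ : ∀ k, y₁ * ι k = ι (σ k) * y₁ := proj_semi ι σ x
  have h₂ : ∀ k, y₂ * ι k = ι (σ⁻¹ k) * y₂ := proj_semi ι σ⁻¹ x
  rcases Nat.even_or_odd (orderOf σ) with heven | hodd
  swap
  · exact not_odd_pair hn hp hJ ι hιJ hmax σ hodd hσ y₁ y₂ h₁ h₂ hσx hmem
  -- even order: an element anticommuting with the pair
  set m := orderOf σ with hm_def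
  have hm0 : 0 < m := orderOf_pos σ
  let f : A → A := fun a => ∑ i ∈ range m, (-1) ^ i * (σ ^ i) a
  have hf : ∀ a, σ (f a) = - f a := by
    intro a
    show σ (∑ i ∈ range m, (-1) ^ i * (σ ^ i) a) = - ∑ i ∈ range m, (-1) ^ i * (σ ^ i) a
    rw [map_sum, ← Finset.sum_neg_distrib]
    have e1 := Finset.sum_range_succ (fun i => -((-1 : A) ^ i * (σ ^ i) a)) m
    have e2 := Finset.sum_range_succ' (fun i => -((-1 : A) ^ i * (σ ^ i) a)) m
    rw [e1, pow_orderOf_eq_one, heven.neg_one_pow] at e2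
    simp only [pow_zero, one_mul, RingAut.one_apply] at e2
    rw [add_right_cancel e2]
    refine Finset.sum_congr rfl fun i _ => ?_
    rw [map_mul, map_pow, map_neg, map_one, pow_succ', pow_succ']
    show _ = -((-1) * (-1) ^ i * σ ((σ ^ i) a))
    ring
  obtain ⟨e, he0, he⟩ : ∃ e : A, e ≠ 0 ∧ σ e = -e := by
    by_contra hcon
    push Not at hcon
    have h0 : ∀ a, f a = 0 := fun a => by_contra fun h => hcon _ h (hf a)
    have key : ∑ k : Aˣ, ((k⁻¹ : Aˣ) : A) * f k = -1 := by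
      calc ∑ k : Aˣ, ((k⁻¹ : Aˣ) : A) * f k
          = ∑ i ∈ range m, (-1) ^ i * ∑ k : Aˣ, (σ ^ i) k * ((k⁻¹ : Aˣ) : A) := by
            simp only [f, Finset.mul_sum]
            rw [Finset.sum_comm]
            exact Finset.sum_congr rfl fun i _ => Finset.sum_congr rfl fun k _ => by ring
        _ = -1 := by
            rw [Finset.sum_eq_single 0 (fun i hi h0 => ?_) (fun h => absurd (mem_range.2 hm0) h)]
            · rw [sum_units_twist, if_pos (pow_zero σ)]; simp
            · rw [sum_units_twist, if_neg (pow_ne_one_of_lt_orderOf h0 (mem_range.1 hi)), mul_zero]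
    simp [h0] at key
  have h2A : (2 : A) ≠ 0 := by
    intro h
    have : ((2 * n + 1 : ℕ) : A) = 0 := hn ▸ hpA
    push_cast at this
    rw [h, zero_mul, zero_add] at this
    exact one_ne_zero this
  have he' : σ⁻¹ e = -e := by
    have h : σ⁻¹ (σ e) = σ⁻¹ (-e) := by rw [he]
    rw [inv_apply', map_neg] at h
    linear_combination h
  set y := y₁ + y₂ with hy_def
  have hye : y * ι e = -(ι e * y) := by
    rw [hy_def, add_mul, h₁, h₂, he, he', map_neg, mul_add, neg_add, neg_mul, neg_mul]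
  have hy0 : y ≠ 0 := by
    intro h
    have e1 := congrArg (proj ι σ) h
    rw [hy_def, proj_add, proj_of_semi ι σ _ h₁, proj_of_semi ι σ _ h₂, if_pos rfl, proj_zero] at e1
    split_ifs at e1 with hσσ
    · have hy12 : y₂ = y₁ := by rw [hy₁_def, hy₂_def, ← hσσ]
      rw [hy12] at e1
      refine hσx ((((isUnit_iff_ne_zero.2 h2A).map ι)).mul_right_eq_zero.1 ?_)
      rw [map_ofNat, two_mul, e1]
    · rw [add_zero] at e1; exact hσx e1
  have hyU : IsUnit y := hJ.isUnit hmem hy0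
  have hy_not : y ∉ Subring.centralizer ({ι e} : Set (AddMonoid.End W)) := fun h => by
    have h' : ι e * y = y * ι e := Subring.mem_centralizer_iff.1 h _ rfl
    rw [hye] at h'
    have h2 : ι (e + e) * y = 0 := by
      rw [map_add, add_mul]
      exact add_eq_zero_iff_eq_neg.2 h'
    have hee : e + e ≠ 0 := by rw [← two_mul]; exact mul_ne_zero h2A he0
    exact hy0 ((((isUnit_iff_ne_zero.2 hee).map ι)).mul_right_eq_zero.1 h2)
  set C := J ⊓ (Subring.centralizer ({ι e} : Set (AddMonoid.End W))).toAddSubgroup with hC_def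
  have hlt : C < J := lt_of_le_of_ne inf_le_left fun h => hy_not (h.ge hmem).2
  have hCc := ih C hlt (hJ.inf_centralizer (ι e))
  have hιC : ∀ k, ι k ∈ C := fun k => ⟨hιJ k, Subring.mem_centralizer_iff.2 fun g hg => by
    rw [Set.mem_singleton_iff] at hg
    rw [hg, ← map_mul, ← map_mul, mul_comm]⟩
  have hy2C : y * y ∈ C := by
    refine ⟨by have := hJ.pow_mem hmem 2; rwa [pow_two] at this, Subring.mem_centralizer_iff.2 fun g hg => ?_⟩
    rw [Set.mem_singleton_iff] at hg
    rw [hg, mul_assoc y y, hye, mul_neg, ← mul_assoc y, hye, neg_mul, neg_neg, ← mul_assoc]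
  obtain ⟨fv, hfv⟩ := hmax _ hy2C.1 fun k => hCc _ hy2C _ (hιC k)
  have hfix : ∀ g : A, y * ι g = ι g * y → σ g = g := by
    intro g hg
    have e1 := congrArg (proj ι σ) hg
    rw [hy_def, add_mul, mul_add, h₁, h₂, proj_add, proj_add, proj_of_semi ι σ _ (semi_smul ι h₁ _),
      proj_of_semi ι σ _ (semi_smul ι h₂ _), proj_of_semi ι σ _ (semi_smul ι h₁ _),
      proj_of_semi ι σ _ (semi_smul ι h₂ _), if_pos rfl, if_pos rfl] at e1
    by_contra hne
    apply hσx
    split_ifs at e1 with hσσ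
    · have hy12 : y₂ = y₁ := by rw [hy₁_def, hy₂_def, ← hσσ]
      rw [hy12, ← hσσ, ← add_mul, ← add_mul, ← map_add ι, ← map_add ι] at e1
      have h0 : ι (σ g + σ g - (g + g)) * y₁ = 0 := by rw [map_sub, sub_mul, e1, sub_self]
      refine (((isUnit_iff_ne_zero.2 ?_).map ι)).mul_right_eq_zero.1 h0
      rw [show σ g + σ g - (g + g) = 2 * (σ g - g) by ring]
      exact mul_ne_zero h2A (sub_ne_zero.2 hne)
    · simp only [add_zero] at e1
      have h0 : ι (σ g - g) * y₁ = 0 := by rw [map_sub, sub_mul, e1, sub_self]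
      exact (((isUnit_iff_ne_zero.2 (sub_ne_zero.2 hne)).map ι)).mul_right_eq_zero.1 h0
  have hσf : σ fv = fv := hfix fv (by rw [hfv, mul_assoc])
  let F2 : Subfield A := RingHom.eqLocusField σ.toRingHom (RingHom.id A)
  have hg2 : σ (e * e) = e * e := by rw [map_mul, he, neg_mul_neg]
  haveI : Fintype F2 := Fintype.ofFinite _
  have hodd2 : Fintype.card F2 % 2 = 1 := by
    have : CharP F2 p := CharP.subring A p F2.toSubring
    refine Nat.odd_iff.1 ?_
    obtain ⟨k, -, hk⟩ := FiniteField.card F2 p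
    rw [hk]
    exact (hpp.out.odd_of_ne_two hp2).pow
  let fv' : F2 := ⟨fv, hσf⟩
  let g' : F2 := ⟨e * e, hg2⟩
  have hg'0 : g' ≠ 0 := fun h => he0 (mul_self_eq_zero.1 (congrArg Subtype.val h))
  have hd1 : (Polynomial.X ^ 2 - Polynomial.C fv').degree = 2 := Polynomial.degree_X_pow_sub_C (by norm_num) _
  have hd2 : (Polynomial.C (-g') * Polynomial.X ^ 2).degree = 2 :=
    Polynomial.degree_C_mul_X_pow 2 (neg_ne_zero.2 hg'0)
  obtain ⟨α, β, hαβ⟩ := FiniteField.exists_root_sum_quadratic hd1 hd2 hodd2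
  simp only [Polynomial.eval_sub, Polynomial.eval_pow, Polynomial.eval_X, Polynomial.eval_C,
    Polynomial.eval_mul] at hαβ
  have hαβ' := congrArg Subtype.val hαβ
  push_cast at hαβ'
  set a := (α : A)
  set b := (β : A)
  have hαs : σ a = a := α.2
  have hβs : σ b = b := β.2
  have hinv : ∀ {g : A}, σ g = g → σ⁻¹ g = g := fun {g} hg => by
    conv_lhs => rw [← hg]
    exact inv_apply' σ g
  set k := a + b * e with hk_def
  set k' := a - b * e with hk'_def
  have hk' : y * ι k' = ι k * y := by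
    rw [hy_def, add_mul, h₁, h₂, hk'_def, map_sub σ, map_sub σ⁻¹, map_mul σ, map_mul σ⁻¹, hαs, hβs, he, he',
      hinv hαs, hinv hβs, mul_add, mul_neg, sub_neg_eq_add]
  have hprod : (ι k + y) * (ι k' - y) = 0 := by
    rw [mul_sub, add_mul (ι k) y, add_mul (ι k) y, hk', ← map_mul, ← hfv,
      show ι (k * k') + ι k * y - (ι k * y + ι fv) = ι (k * k' - fv) by rw [map_sub]; abel]
    rw [show k * k' - fv = 0 by rw [hk_def, hk'_def]; linear_combination hαβ', map_zero]
  have hne : ∀ g, y ≠ ι g := fun g h => hy_not (h ▸ (hιC g).2)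
  have hu1 : IsUnit (ι k + y) := hJ.isUnit (J.add_mem (hιJ k) hmem) fun h => hne (-k) (by
    rw [map_neg]; exact eq_neg_of_add_eq_zero_right h)
  exact hne k' (sub_eq_zero.1 (hu1.mul_right_eq_zero.1 hprod)).symm

/-- The nonzero members of a division set of odd characteristic form a cyclic group. -/
theorem IsDivSet.exists_gen [Nontrivial W] {p : ℕ} [hpp : Fact p.Prime] (hp2 : p ≠ 2)
    (hp : (p : AddMonoid.End W) = 0) {J : AddSubgroup (AddMonoid.End W)} (hJ : IsDivSet J) :
    ∃ γ ∈ J, γ ≠ 0 ∧ ∀ x ∈ J, x ≠ 0 → ∃ i : ℕ, γ ^ i = x := by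
  obtain ⟨n, hn⟩ : ∃ n, p = 2 * n + 1 := hpp.out.odd_of_ne_two hp2
  obtain ⟨w₀, hw₀⟩ := exists_ne (0 : W)
  have : Nontrivial (AddMonoid.End W) := ⟨⟨1, 0, fun h => hw₀ (DFunLike.congr_fun h w₀)⟩⟩
  obtain ⟨A, iA, fA, ι, hιJ, hmax⟩ := exists_max_field hJ hn hp
  have hcomm := IsDivSet.comm hp2 hp J hJ
  obtain ⟨g, hg⟩ := IsCyclic.exists_monoid_generator (α := Aˣ)
  refine ⟨ι (g : A), hιJ _, fun h => g.ne_zero (ι.injective (h.trans (map_zero ι).symm)), fun x hx h0 => ?_⟩
  obtain ⟨a, rfl⟩ := hmax x hx fun k => hcomm x hx _ (hιJ k)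
  have ha : a ≠ 0 := fun h => h0 (by rw [h, map_zero])
  obtain ⟨i, hi⟩ := hg (Units.mk0 a ha)
  exact ⟨i, by rw [← map_pow, ← Units.val_pow_eq_pow_val]; exact congrArg ι (congrArg Units.val hi)⟩

end CfsgLib.Spread91
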