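import Cfsg.Agent.Lib.Spread91.Semifix

/-!
An additive group of endomorphisms of a finite group, containing `1`, with all nonzero members invertible
inside it, is a field (finite Jordan division algebras, odd characteristic).
-/

set_option autoImplicit false

namespace CfsgLib.Spread91

open Finset

universe u

/-- `J` contains `1` and the inverse of each of its nonzero members. -/
structure IsDivSet {R : Type*} [Ring R] (J : AddSubgroup R) : Prop where
  one : (1 : R) ∈ J
  inv : ∀ x ∈ J, x ≠ 0 → ∃ y ∈ J, x * y = 1 ∧ y * x = 1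

namespace IsDivSet

variable {R : Type*} [Ring R] {J : AddSubgroup R} (hJ : IsDivSet J)
include hJ

theorem isUnit {x : R} (hx : x ∈ J) (h0 : x ≠ 0) : IsUnit x := by
  obtain ⟨y, -, h1, h2⟩ := hJ.inv x hx h0
  exact ⟨⟨x, y, h1, h2⟩, rfl⟩

theorem eq_zero_of_mul {x y : R} (hx : x ∈ J) (h : x * y = 0) (hy : y ≠ 0) : x = 0 := by
  by_contra h0
  exact hy ((hJ.isUnit hx h0).mul_right_eq_zero.1 h)

/-- Hua's identity. -/
theorem conj_mem {a b : R} (ha : a ∈ J) (hb : b ∈ J) : a * b * a ∈ J := by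
  rcases eq_or_ne a 0 with rfl | ha0
  · simp
  rcases eq_or_ne b 0 with rfl | hb0
  · simp
  obtain ⟨ai, hai, a1, a2⟩ := hJ.inv a ha ha0
  obtain ⟨bi, hbi, b1, b2⟩ := hJ.inv b hb hb0
  rcases eq_or_ne (bi - a) 0 with h | h
  · rw [← sub_eq_zero.1 h, b2, one_mul]; exact hbi
  obtain ⟨ci, hci, c1, c2⟩ := hJ.inv (bi - a) (J.sub_mem hbi ha) h
  have e : (ai + ci) * (a - a * b * a) = 1 := by
    have e1 : (bi - a) * (b * a) = a - a * b * a := by
      rw [sub_mul, ← mul_assoc bi, b2, one_mul, ← mul_assoc]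
    rw [← e1, add_mul, ← mul_assoc ci, c2, one_mul, e1, mul_sub, a2, ← mul_assoc ai, ← mul_assoc ai,
      a2, one_mul, sub_add_cancel]
  rcases eq_or_ne (ai + ci) 0 with hn | hn
  · rw [hn, zero_mul] at e
    have h0 : a = 0 := by rw [← one_mul a, ← e, zero_mul]
    exact absurd h0 ha0
  obtain ⟨d, hd, d1, d2⟩ := hJ.inv (ai + ci) (J.add_mem hai hci) hn
  have hde : d = a - a * b * a := by
    calc d = d * ((ai + ci) * (a - a * b * a)) := by rw [e, mul_one]
      _ = _ := by rw [← mul_assoc, d2, one_mul]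
  have : a * b * a = a - d := by rw [hde, sub_sub_cancel]
  rw [this]
  exact J.sub_mem ha hd

theorem sym_mem {a b c : R} (ha : a ∈ J) (hb : b ∈ J) (hc : c ∈ J) : a * b * c + c * b * a ∈ J := by
  have h : a * b * c + c * b * a = (a + c) * b * (a + c) - a * b * a - c * b * c := by noncomm_ring
  rw [h]
  exact J.sub_mem (J.sub_mem (hJ.conj_mem (J.add_mem ha hc) hb) (hJ.conj_mem ha hb)) (hJ.conj_mem hc hb)

theorem pow_mem {x : R} (hx : x ∈ J) : ∀ k : ℕ, x ^ k ∈ J
  | 0 => by simpa using hJ.one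
  | 1 => by simpa using hx
  | k + 2 => by
    have := hJ.conj_mem hx (pow_mem hx k)
    rwa [← pow_succ', ← pow_succ] at this

omit hJ in
theorem half_mem {p n : ℕ} (hn : p = 2 * n + 1) (hp : (p : R) = 0) {s : R} (hs : s + s ∈ J) : s ∈ J := by
  have : s = (n + 1) • (s + s) := by
    rw [← two_nsmul, ← mul_nsmul, show 2 * (n + 1) = p + 1 by omega, add_nsmul, one_nsmul, nsmul_eq_mul, hp,
      zero_mul, zero_add]
  rw [this]
  exact J.nsmul_mem hs _

theorem mul_mem_of_commute {p n : ℕ} (hn : p = 2 * n + 1) (hp : (p : R) = 0) {a b : R} (ha : a ∈ J) (hb : b ∈ J)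
    (h : a * b = b * a) : a * b ∈ J := by
  have h2 := hJ.sym_mem ha hJ.one hb
  rw [mul_one, mul_one, ← h] at h2
  exact half_mem hn hp h2

theorem inf_centralizer (e : R) : IsDivSet (J ⊓ (Subring.centralizer {e}).toAddSubgroup) := by
  refine ⟨⟨hJ.one, Subring.one_mem _⟩, fun x hx h0 => ?_⟩
  obtain ⟨y, hy, h1, h2⟩ := hJ.inv x hx.1 h0
  refine ⟨y, ⟨hy, Subring.mem_centralizer_iff.2 ?_⟩, h1, h2⟩
  rintro g rfl
  have hc : g * x = x * g := Subring.mem_centralizer_iff.1 hx.2 g rfl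
  calc g * y = y * x * (g * y) := by rw [h2, one_mul]
    _ = y * (x * g) * y := by noncomm_ring
    _ = y * g * (x * y) := by rw [← hc]; noncomm_ring
    _ = y * g := by rw [h1, mul_one]

end IsDivSet

/-- A finite commutative subring all of whose nonzero elements are invertible is a field. -/
theorem exists_field_of_subring {R : Type u} [Ring R] [Finite R] [Nontrivial R] (K : Subring R)
    (hc : ∀ a ∈ K, ∀ b ∈ K, a * b = b * a) (hu : ∀ a ∈ K, a ≠ 0 → IsUnit a) :
    ∃ (A : Type u) (_ : Field A) (_ : Fintype A) (ι : A →+* R), ι.range = K := by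
  classical
  letI : CommRing ↥K := { (inferInstance : Ring ↥K) with mul_comm := fun a b => Subtype.ext (hc _ a.2 _ b.2) }
  haveI : NoZeroDivisors ↥K := ⟨fun {a b} h => by
    by_cases ha : a = 0
    · exact Or.inl ha
    · refine Or.inr (Subtype.ext ?_)
      exact (hu _ a.2 fun h0 => ha (Subtype.ext h0)).mul_right_eq_zero.1 (congrArg Subtype.val h)⟩
  haveI : IsDomain ↥K := NoZeroDivisors.to_isDomain _
  haveI : Fintype ↥K := Fintype.ofFinite _
  letI : Field ↥K := Fintype.fieldOfDomain _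
  exact ⟨↥K, inferInstance, inferInstance, K.subtype, Subring.range_subtype K⟩

/-- A maximal commutative subset of `J` is a field. -/
theorem exists_max_field {R : Type u} [Ring R] [Finite R] [Nontrivial R] {J : AddSubgroup R}
    (hJ : IsDivSet J) {p n : ℕ} (hn : p = 2 * n + 1) (hp : (p : R) = 0) :
    ∃ (A : Type u) (_ : Field A) (_ : Fintype A) (ι : A →+* R), (∀ k, ι k ∈ J) ∧
      ∀ x ∈ J, (∀ k, x * ι k = ι k * x) → ∃ k, ι k = x := by
  classical
  obtain ⟨S, ⟨hSJ, hS1, hSc⟩, hmax⟩ := Set.Finite.exists_maximal (Set.toFinite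
    {T : Set R | T ⊆ J ∧ (1 : R) ∈ T ∧ ∀ a ∈ T, ∀ b ∈ T, a * b = b * a})
    ⟨{1}, by simp [hJ.one], rfl, by simp⟩
  have hkey : ∀ y ∈ J, (∀ a ∈ S, a * y = y * a) → y ∈ S := by
    intro y hy hc
    refine hmax (y := insert y S) ⟨Set.insert_subset hy hSJ, Set.mem_insert_of_mem _ hS1, ?_⟩
      (Set.subset_insert _ _) (Set.mem_insert _ _)
    rintro a (rfl | ha) b (rfl | hb)
    · rfl
    · exact (hc b hb).symm
    · exact hc a ha
    · exact hSc a ha b hb
  let K : Subring R :=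
    { carrier := S
      mul_mem' := fun {a b} ha hb => hkey _ (hJ.mul_mem_of_commute hn hp (hSJ ha) (hSJ hb) (hSc a ha b hb))
        fun c hc => by rw [← mul_assoc, hSc c hc a ha, mul_assoc, hSc c hc b hb, mul_assoc]
      one_mem' := hS1
      add_mem' := fun {a b} ha hb => hkey _ (J.add_mem (hSJ ha) (hSJ hb))
        fun c hc => by rw [mul_add, add_mul, hSc c hc a ha, hSc c hc b hb]
      zero_mem' := hkey _ J.zero_mem (by simp)
      neg_mem' := fun {a} ha => hkey _ (J.neg_mem (hSJ ha))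
        fun c hc => by rw [mul_neg, neg_mul, hSc c hc a ha] }
  obtain ⟨A, iA, fA, ι, hι⟩ := exists_field_of_subring K hSc (fun a ha h0 => hJ.isUnit (hSJ ha) h0)
  have hr : ∀ x, x ∈ S ↔ ∃ k, ι k = x := fun x => by
    show x ∈ K ↔ _
    rw [← hι]; exact RingHom.mem_range
  exact ⟨A, iA, fA, ι, fun k => hSJ ((hr _).2 ⟨k, rfl⟩), fun x hx h => (hr _).1 (hkey x hx fun a ha => by
    obtain ⟨k, rfl⟩ := (hr a).1 ha
    exact (h k).symm)⟩

section Proj

open scoped Classical

variable {A : Type*} [Field A] [Fintype A] {R : Type*} [Ring R] (ι : A →+* R)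

/-- The component of `x` that is semilinear for `τ`. -/
noncomputable def proj (τ : RingAut A) (x : R) : R := -∑ k : Aˣ, ι (τ k) * x * ι ((k⁻¹ : Aˣ) : A)

theorem proj_semi (τ : RingAut A) (x : R) (l : A) : proj ι τ x * ι l = ι (τ l) * proj ι τ x := by
  rcases eq_or_ne l 0 with rfl | hl
  · simp
  simp only [proj, neg_mul, mul_neg, Finset.sum_mul, Finset.mul_sum]
  congr 1
  refine Fintype.sum_equiv (Equiv.mulLeft (Units.mk0 l hl)⁻¹) _ _ fun k => ?_
  rw [mul_assoc, ← map_mul, ← mul_assoc (ι (τ l)), ← mul_assoc (ι (τ l)), ← map_mul, ← map_mul]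
  congr 3
  · simp only [Equiv.coe_mulLeft, Units.val_mul, Units.val_inv_eq_inv_val, Units.val_mk0, map_mul, map_inv₀]
    have hτl : τ l ≠ 0 := (map_ne_zero τ.toRingHom).2 hl
    field_simp
  all_goals simp only [Equiv.coe_mulLeft, mul_inv_rev, inv_inv, Units.val_mul, Units.val_mk0]

theorem proj_add (τ : RingAut A) (x y : R) : proj ι τ (x + y) = proj ι τ x + proj ι τ y := by
  simp only [proj, mul_add, add_mul, Finset.sum_add_distrib]; abel

theorem proj_zero (τ : RingAut A) : proj ι τ (0 : R) = 0 := by simp [proj]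

theorem proj_sum (τ : RingAut A) {β : Type*} (s : Finset β) (f : β → R) :
    proj ι τ (∑ i ∈ s, f i) = ∑ i ∈ s, proj ι τ (f i) :=
  map_sum (AddMonoidHom.mk' (proj ι τ) (proj_add ι τ)) f s

open Classical in
theorem proj_of_semi (τ ρ : RingAut A) {y : R} (hy : ∀ l, y * ι l = ι (ρ l) * y) :
    proj ι τ y = if τ = ρ then y else 0 := by
  have h : proj ι τ y = -(ι (∑ k : Aˣ, τ k * ρ ((k⁻¹ : Aˣ) : A))) * y := by
    rw [proj, map_sum, neg_mul, Finset.sum_mul]
    congr 1
    refine Finset.sum_congr rfl fun k _ => ?_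
    rw [mul_assoc, hy, ← mul_assoc, ← map_mul]
  have hs : ∑ k : Aˣ, τ k * ρ ((k⁻¹ : Aˣ) : A) = if τ = ρ then -1 else 0 := by
    have e : ∑ k : Aˣ, τ k * ρ ((k⁻¹ : Aˣ) : A) =
        ρ (∑ k : Aˣ, (ρ⁻¹ * τ) k * ((k⁻¹ : Aˣ) : A)) := by
      rw [map_sum]
      refine Finset.sum_congr rfl fun k _ => ?_
      rw [map_mul]
      congr 1
      show _ = ρ (ρ⁻¹ (τ k))
      rw [← RingAut.mul_apply, mul_inv_cancel, RingAut.one_apply]
    rw [e, sum_units_twist]
    rcases eq_or_ne τ ρ with h | h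
    · rw [if_pos h, if_pos (by rw [h, inv_mul_cancel]), map_neg, map_one]
    · rw [if_neg h, if_neg (fun e => h (eq_of_inv_mul_eq_one e).symm), map_zero]
  rw [h, hs]
  split_ifs <;> simp

theorem sum_proj {p : ℕ} [Fact p.Prime] [CharP A p] (x : R) [Fintype (RingAut A)] :
    ∑ τ : RingAut A, proj ι τ x = x := by
  let t : A → A := fun k => ∑ τ : RingAut A, τ k
  have ht : ∀ k, ∀ r : R, ι (t k) * r = r * ι (t k) := by
    intro k r
    have hf : t k ^ p = t k := by
      rw [show t k ^ p = frobeniusEquiv A p (t k) from rfl, map_sum]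
      exact Fintype.sum_equiv (Equiv.mulLeft (frobeniusEquiv A p : RingAut A)) _ _ fun τ => rfl
    obtain ⟨n, hn⟩ := (mem_bot_iff_intCast p A).1 ((Subfield.mem_bot_iff_pow_eq_self A p).2 hf)
    rw [← hn, map_intCast, Int.cast_comm]
  calc ∑ τ : RingAut A, proj ι τ x = -∑ k : Aˣ, (∑ τ : RingAut A, ι (τ (k : A))) * x * ι ((k⁻¹ : Aˣ) : A) := by
        simp only [proj, Finset.sum_neg_distrib]
        congr 1
        rw [Finset.sum_comm]
        exact Finset.sum_congr rfl fun k _ => by rw [Finset.sum_mul, Finset.sum_mul]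
    _ = -∑ k : Aˣ, x * (ι (t k) * ι ((k⁻¹ : Aˣ) : A)) := by
        congr 1
        refine Finset.sum_congr rfl fun k _ => ?_
        rw [← map_sum, ht, mul_assoc]
    _ = x * ι (-∑ τ : RingAut A, ∑ k : Aˣ, τ k * ((k⁻¹ : Aˣ) : A)) := by
        rw [← Finset.mul_sum, map_neg, mul_neg, Finset.sum_comm, map_sum]
        congr 2
        refine Finset.sum_congr rfl fun k _ => ?_
        rw [← map_mul, Finset.sum_mul]
    _ = x := by
        classical
        rw [Finset.sum_congr rfl (fun τ _ => sum_units_twist τ), Finset.sum_ite_eq']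
        simp

theorem proj_pair_mem {J : AddSubgroup R} (hJ : IsDivSet J) (hιJ : ∀ k, ι k ∈ J) (σ : RingAut A) {x : R}
    (hx : x ∈ J) : proj ι σ x + proj ι σ⁻¹ x ∈ J := by
  have e : proj ι σ⁻¹ x = -∑ k : Aˣ, ι ((k⁻¹ : Aˣ) : A) * x * ι (σ k) := by
    rw [proj]
    congr 1
    refine Fintype.sum_equiv ((Units.mapEquiv (σ⁻¹ : RingAut A).toMulEquiv).toEquiv.trans (Equiv.inv Aˣ)) _ _
      fun k => ?_
    simp only [Equiv.trans_apply, Equiv.inv_apply, inv_inv, MulEquiv.toEquiv_eq_coe, EquivLike.coe_coe]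
    congr 2
    show ((k⁻¹ : Aˣ) : A) = σ (((Units.mapEquiv (σ⁻¹ : RingAut A).toMulEquiv k)⁻¹ : Aˣ) : A)
    rw [← map_inv]
    show _ = σ (σ⁻¹ ((k⁻¹ : Aˣ) : A))
    rw [← RingAut.mul_apply, mul_inv_cancel, RingAut.one_apply]
  rw [e, proj, ← neg_add, ← Finset.sum_add_distrib]
  exact J.neg_mem (J.sum_mem fun k _ => hJ.sym_mem (hιJ _) hx (hιJ _))

end Proj

end CfsgLib.Spread91
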