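import Mathlib

/-!
Semilinear endomorphisms over a finite field: fixed vectors and the norm of a cyclic extension.
Averaging over the multiplicative group replaces the trace form.
-/

set_option autoImplicit false

namespace CfsgLib.Spread91

open Finset

variable {A : Type*} [Field A] [Fintype A]

open Classical in
/-- The averaging identity: a twisted sum over the units detects the identity automorphism. -/
theorem sum_units_twist (τ : RingAut A) :
    ∑ k : Aˣ, τ k * ((k⁻¹ : Aˣ) : A) = if τ = 1 then -1 else 0 := by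
  split_ifs with h
  · subst h
    rw [Finset.sum_congr rfl (g := fun _ => (1 : A))
      (fun (k : Aˣ) _ => show (1 : RingAut A) (k : A) * ((k⁻¹ : Aˣ) : A) = 1 from k.mul_inv)]
    rw [Finset.sum_const, Finset.card_univ, Fintype.card_units, nsmul_eq_mul, mul_one,
      Nat.cast_sub Fintype.card_pos, FiniteField.cast_card_eq_zero, Nat.cast_one, zero_sub]
  · obtain ⟨a, ha⟩ : ∃ a : A, τ a ≠ a := by
      by_contra hcon
      push Not at hcon
      exact h (RingEquiv.ext hcon)
    have ha0 : a ≠ 0 := fun e => ha (by rw [e, map_zero])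
    set u := Units.mk0 a ha0 with hu
    set S := ∑ k : Aˣ, τ k * ((k⁻¹ : Aˣ) : A) with hS
    have hre : τ a * a⁻¹ * S = S := by
      rw [hS, Finset.mul_sum]
      refine Fintype.sum_equiv (Equiv.mulLeft u) _ _ fun k => ?_
      simp only [Equiv.coe_mulLeft, Units.val_mul, map_mul, mul_inv_rev, hu, Units.val_mk0,
        Units.val_inv_eq_inv_val]
      ring
    have : (τ a * a⁻¹ - 1) * S = 0 := by rw [sub_mul, one_mul, hre, sub_self]
    refine (mul_eq_zero.1 this).resolve_left fun e => ha ?_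
    rwa [sub_eq_zero, ← div_eq_mul_inv, div_eq_one_iff_eq ha0] at e

variable {W : Type*} [AddCommGroup W]

theorem pow_semilinear {R : Type*} [Ring R] (ι : A →+* R) (σ : RingAut A) {Y : R}
    (hY : ∀ k, Y * ι k = ι (σ k) * Y) (i : ℕ) (k : A) : Y ^ i * ι k = ι ((σ ^ i) k) * Y ^ i := by
  induction i generalizing k with
  | zero => simp
  | succ i ih => rw [pow_succ, mul_assoc, hY, ← mul_assoc, ih, mul_assoc, pow_succ]; rfl

open Classical in
/-- A semilinear map of period `m`, `m` at most the order of the automorphism, fixes a nonzero vector. -/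
theorem exists_semifix (ι : A →+* AddMonoid.End W) (σ : RingAut A) {m : ℕ} (hm : 0 < m)
    (hσ : ∀ i, 0 < i → i < m → σ ^ i ≠ 1) (Y : AddMonoid.End W) (hY : ∀ k, Y * ι k = ι (σ k) * Y)
    (N : AddSubgroup W) (hNι : ∀ k, ∀ w ∈ N, ι k w ∈ N) (hNY : ∀ w ∈ N, Y w ∈ N) {w : W}
    (hw : w ∈ N) (hw0 : w ≠ 0) (hYm : ∀ v ∈ N, (Y ^ m) v = v) :
    ∃ v ∈ N, v ≠ 0 ∧ Y v = v := by
  have hpowN : ∀ (i : ℕ), ∀ v ∈ N, (Y ^ i) v ∈ N := by
    intro i
    induction i with
    | zero => intro v hv; simpa using hv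
    | succ i ih => intro v hv; rw [pow_succ']; exact hNY _ (ih v hv)
  let S : W → W := fun v => ∑ i ∈ range m, (Y ^ i) v
  have hSN : ∀ v ∈ N, S v ∈ N := fun v hv => N.sum_mem fun i _ => hpowN i v hv
  have hSfix : ∀ v ∈ N, Y (S v) = S v := by
    intro v hv
    show Y (∑ i ∈ range m, (Y ^ i) v) = _
    rw [map_sum]
    have h1 := Finset.sum_range_succ (fun i => (Y ^ i) v) m
    have h2 := Finset.sum_range_succ' (fun i => (Y ^ i) v) m
    rw [h1, hYm v hv] at h2
    have : ∑ i ∈ range m, (Y ^ (i + 1)) v = ∑ i ∈ range m, (Y ^ i) v := by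
      rw [pow_zero] at h2
      exact (add_right_cancel h2).symm
    show _ = ∑ i ∈ range m, (Y ^ i) v
    rw [← this]
    exact Finset.sum_congr rfl fun i _ => by rw [pow_succ']; rfl
  have key : ∑ k : Aˣ, ι ((k⁻¹ : Aˣ) : A) (S (ι (k : A) w)) = - w := by
    calc ∑ k : Aˣ, ι ((k⁻¹ : Aˣ) : A) (S (ι (k : A) w))
        = ∑ k : Aˣ, ∑ i ∈ range m, ι ((σ ^ i) (k : A) * ((k⁻¹ : Aˣ) : A)) ((Y ^ i) w) := by
          refine Finset.sum_congr rfl fun k _ => ?_
          show ι _ (∑ i ∈ range m, (Y ^ i) (ι (k : A) w)) = _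
          rw [map_sum]
          refine Finset.sum_congr rfl fun i _ => ?_
          rw [mul_comm, map_mul]
          show ι _ ((Y ^ i * ι (k : A)) w) = _
          rw [pow_semilinear ι σ hY]
          rfl
      _ = ∑ i ∈ range m, (ι (∑ k : Aˣ, (σ ^ i) (k : A) * ((k⁻¹ : Aˣ) : A))) ((Y ^ i) w) := by
          rw [Finset.sum_comm]
          refine Finset.sum_congr rfl fun i _ => ?_
          rw [map_sum]
          exact (AddMonoidHom.finsetSum_apply _ _ _).symm
      _ = - w := by
          rw [Finset.sum_eq_single 0 (fun i hi h0 => ?_) (fun h => absurd (mem_range.2 hm) h)]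
          · rw [sum_units_twist, if_pos (pow_zero σ), map_neg, map_one]
            rfl
          · rw [sum_units_twist, if_neg (hσ i (Nat.pos_of_ne_zero h0) (mem_range.1 hi)), map_zero]
            rfl
  by_contra hcon
  push Not at hcon
  refine hw0 (neg_eq_zero.1 (key.symm.trans (Finset.sum_eq_zero fun k _ => ?_)))
  have h0 : S (ι (k : A) w) = 0 := by
    by_contra h
    exact hcon _ (hSN _ (hNι _ _ hw)) h (hSfix _ (hNι _ _ hw))
  rw [h0, map_zero]

/-- The norm of `σ` up to `m`. -/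
def nrm (σ : RingAut A) (m : ℕ) (x : A) : A := ∏ i ∈ range m, (σ ^ i) x

theorem pow_smul_semilinear {R : Type*} [Ring R] (ι : A →+* R) (σ : RingAut A) {Y : R}
    (hY : ∀ k, Y * ι k = ι (σ k) * Y) (a : A) (i : ℕ) : (ι a * Y) ^ i = ι (nrm σ i a) * Y ^ i := by
  induction i with
  | zero => simp [nrm]
  | succ i ih =>
    rw [pow_succ, ih, mul_assoc, ← mul_assoc (Y ^ i), pow_semilinear ι σ hY, ← mul_assoc, ← mul_assoc,
      ← map_mul, mul_assoc, ← pow_succ]
    congr 2
    rw [nrm, nrm, Finset.prod_range_succ]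

theorem apply_nrm (σ : RingAut A) {m : ℕ} (hm : σ ^ m = 1) (x : A) : σ (nrm σ m x) = nrm σ m x := by
  rcases eq_or_ne x 0 with rfl | hx
  · rw [nrm, map_prod]
    refine Finset.prod_congr rfl fun i _ => ?_
    simp
  · have h1 := Finset.prod_range_succ (fun i => (σ ^ i) x) m
    have h2 := Finset.prod_range_succ' (fun i => (σ ^ i) x) m
    rw [h1, hm] at h2
    simp only [pow_zero, RingAut.one_apply] at h2
    have h3 := mul_right_cancel₀ hx h2
    rw [nrm, map_prod, h3]
    exact Finset.prod_congr rfl fun i _ => by rw [pow_succ']; rfl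

/-- Every nonzero element fixed by an automorphism of order `m` is a norm. -/
theorem exists_nrm_eq (σ : RingAut A) {m : ℕ} (hm0 : 0 < m) (hm : σ ^ m = 1)
    (hσ : ∀ i, 0 < i → i < m → σ ^ i ≠ 1) {c : A} (hc : σ c = c) (hc0 : c ≠ 0) :
    ∃ γ : A, γ ≠ 0 ∧ nrm σ m γ = c := by
  classical
  let ν : Aˣ →* Aˣ :=
    { toFun := fun x => Units.mk0 (nrm σ m x) (Finset.prod_ne_zero_iff.2 fun i _ =>
        (map_ne_zero (σ ^ i).toRingHom).2 x.ne_zero)
      map_one' := Units.ext (by simp [nrm])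
      map_mul' := fun x y => Units.ext (by simp [nrm, Finset.prod_mul_distrib]) }
  let μ : Aˣ →* Aˣ := Units.map (σ.toRingHom : A →* A)
  let δ : Aˣ →* Aˣ := MonoidHom.id Aˣ / μ
  have hδker : ∀ x : Aˣ, x ∈ δ.ker ↔ σ (x : A) = x := fun x => by
    rw [MonoidHom.mem_ker, show δ x = x / μ x from rfl, div_eq_one, Units.ext_iff, eq_comm]
    rfl
  have hνδ : ν.range ≤ δ.ker := by
    rintro _ ⟨x, rfl⟩
    exact (hδker _).2 (apply_nrm σ hm _)
  have hker : ν.ker ≤ δ.range := by
    intro γ hγ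
    have hγ' : nrm σ m (γ : A) = 1 := congrArg Units.val (MonoidHom.mem_ker.1 hγ)
    let ι : A →+* AddMonoid.End A := Module.toAddMonoidEnd A A
    let Y0 : AddMonoid.End A := σ.toRingHom.toAddMonoidHom
    have hY0 : ∀ k, Y0 * ι k = ι (σ k) * Y0 := fun k => AddMonoidHom.ext fun v => σ.map_mul k v
    have hY : ∀ k, (ι (γ : A) * Y0) * ι k = ι (σ k) * (ι (γ : A) * Y0) := fun k => by
      rw [mul_assoc, hY0, ← mul_assoc, ← map_mul, mul_comm, map_mul, mul_assoc]
    have hpow : ∀ (i : ℕ) (v : A), (Y0 ^ i) v = (σ ^ i) v := by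
      intro i
      induction i with
      | zero => intro v; rfl
      | succ i ih => intro v; rw [pow_succ', pow_succ']; exact congrArg σ (ih v)
    obtain ⟨v, -, hv0, hv⟩ := exists_semifix ι σ hm0 hσ (ι (γ : A) * Y0) hY ⊤
      (fun _ _ _ => trivial) (fun _ _ => trivial) (w := (1 : A)) trivial one_ne_zero
      (fun v _ => by
        rw [pow_smul_semilinear ι σ hY0, hγ', map_one, one_mul, hpow, hm, RingAut.one_apply])
    refine ⟨Units.mk0 v hv0, Units.ext ?_⟩
    have hv' : (γ : A) * σ v = v := hv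
    show ((Units.mk0 v hv0 / μ (Units.mk0 v hv0) : Aˣ) : A) = _
    rw [Units.val_div_eq_div_val, Units.val_mk0, div_eq_iff (Units.ne_zero _)]
    exact hv'.symm
  have hle : Nat.card δ.ker ≤ Nat.card ν.range := by
    have e1 := Subgroup.card_mul_index ν.ker
    have e2 := Subgroup.card_mul_index δ.ker
    rw [Subgroup.index_ker] at e1 e2
    have h := Subgroup.card_le_of_le hker
    have hpos : 0 < Nat.card δ.range := Nat.card_pos
    refine Nat.le_of_mul_le_mul_right ?_ hpos
    calc Nat.card δ.ker * Nat.card δ.range = Nat.card ν.ker * Nat.card ν.range := by rw [e2, e1]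
      _ ≤ Nat.card δ.range * Nat.card ν.range := Nat.mul_le_mul_right _ h
      _ = Nat.card ν.range * Nat.card δ.range := mul_comm _ _
  have heq : ν.range = δ.ker := Subgroup.eq_of_le_of_card_ge hνδ hle
  obtain ⟨γ, hγ⟩ : Units.mk0 c hc0 ∈ ν.range := heq ▸ (hδker _).2 hc
  exact ⟨γ, γ.ne_zero, congrArg Units.val hγ⟩

end CfsgLib.Spread91
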